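import Cfsg.Agent.Lib.Modular.Dihedral
import Cfsg.Agent.Lib.Inv.KleinSylow
import Cfsg.Agent.Lib.CharDeg.FS
import Cfsg.Agent.Lib.CharDeg.RealRep

/-!
# Brauer's order formula for groups with Klein four Sylow 2-subgroups
-/

set_option autoImplicit false

namespace Cfsg.Lib.Modular

open _root_.Cfsg.Lib.Block Cfsg.Lib.Char Cfsg.Lib.Inv Finset Subgroup
open scoped ComplexConjugate

variable {G : Type*} [Group G] [Finite G] {M : Ideal AlgInt}

omit [Finite G] in
/-- A character of symplectic type has even degree. -/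
theorem even_charDegree_of_frobeniusSchur [Fintype G] {χ : G → ℂ} (h : IsIrrCharacter G χ)
    (hν : (Nat.card G : ℂ)⁻¹ * ∑ s, χ (s * s) = -1) : Even (charDegree χ) := by
  have hr : ∀ g, (χ g).im = 0 := by
    rcases h.frobeniusSchur with h | h
    · rw [hν] at h; simp at h
    · exact h.1
  obtain ⟨n, ρ, hρ, rfl⟩ := h
  obtain ⟨A, hA, hA'⟩ := CharDeg.exists_invariant_form ρ hr
  have e := congrArg Matrix.det (CharDeg.transpose_eq_smul_of_invariant ρ hr hA')
  rw [hν, Matrix.det_transpose, Matrix.det_smul, Fintype.card_fin,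
    eq_comm, mul_eq_right₀ ((Matrix.isUnit_iff_isUnit_det A).1 hA).ne_zero] at e
  rw [charDegree_eq_of_apply_one (n := n) (by simp [Representation.character])]
  exact (neg_one_pow_eq_one_iff_even (by norm_num)).1 e

theorem conj_mem_principalBlock {χ : IrrCharacter G} (hχ : χ ∈ principalBlock M G) :
    (⟨fun g => conj ((χ : G → ℂ) g), χ.2.conj⟩ : IrrCharacter G) ∈ principalBlock M G :=
  fun g => by
    have := hχ g⁻¹
    rw [centralChar_inv isIrrCharacter_one.isCharacter, centralChar_inv χ.2.isCharacter,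
      centralChar_one, map_natCast, ← centralChar_one] at this
    simpa only [centralChar_def, map_div₀, map_mul, map_natCast] using this

theorem isKleinFour_of_card {g₀ : ℕ} (hg₀ : Odd g₀) (hG : Nat.card G = 4 * g₀)
    (hnc : ¬ ∃ N : Subgroup G, N.Normal ∧ Nat.card N = g₀) (P : Sylow 2 G) :
    IsKleinFour (P : Subgroup G) ∧ ¬ HasNormalPComplement 2 G := by
  have h4 : Nat.card (P : Subgroup G) = 2 ^ 2 := by
    rw [P.card_eq_multiplicity, hG, Nat.factorization_mul (by norm_num) hg₀.pos.ne',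
      Finsupp.add_apply, Nat.factorization_eq_zero_of_not_dvd hg₀.not_two_dvd_nat,
      show 4 = 2 ^ 2 from rfl, Nat.prime_two.factorization_pow]
    simp
  have hn : ¬ HasNormalPComplement 2 G := fun h => by
    obtain ⟨N, hN, hc⟩ := (Transfer.hasNormalPComplement_iff_sylow P).1 h
    have := hc.card_mul_card
    rw [h4] at this
    exact hnc ⟨N, hN, by omega⟩
  exact ⟨⟨h4, (not_isCyclic_iff_exponent_eq_prime Nat.prime_two h4).1 fun hc =>
    hn (hasNormalPComplement_of_isCyclic P hc)⟩, hn⟩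

section

variable (hM : IsPModular 2 M) {P : Sylow 2 G} (hP : IsKleinFour (P : Subgroup G))
  (hn : ¬ HasNormalPComplement 2 G) {J : G} (hJ : J ∈ (P : Subgroup G)) (hJ2 : orderOf J = 2)
  {χ : Fin 4 → IrrCharacter G} (hinj : Function.Injective χ)
  (hB : ∀ ψ, ψ ∈ principalBlock M G ↔ ∃ i, χ i = ψ)
include hM hP hn hJ hJ2 hinj hB

theorem kleinFour_order_formula {ε : Fin 4 → ℤ} (hε : ∀ i, ε i = 1 ∨ ε i = -1)
    (hv : ∀ i, (χ i : G → ℂ) J = ε i) :
    ∑ i, ε i * charDegree (χ i : G → ℂ) = 0 ∧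
      Nat.card G * ∑ i, 1 / (ε i * charDegree (χ i : G → ℂ) : ℚ) =
        8 * (Nat.card (centralizer ({J} : Set G)) : ℚ) ^ 3 /
          (Nat.card (centralizer ((P : Subgroup G) : Set G)) : ℚ) ^ 2 := by
  classical
  have := Fintype.ofFinite G
  obtain ⟨b, hb, hb1, hbJ⟩ := k4_exists_ne hP J
  have hJJ := mul_self_of_orderOf hJ2
  have hsup := k4_eq_sup hP hJ hb (ne_one_of_orderOf hJ2) hb1 hbJ.symm
  have h : MC (P : Subgroup G) J b 0 0 0 := by
    refine ⟨hJ2, ?_, hsup.symm, ?_, by simpa using k4_mul_self hP hb, by simp⟩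
    · rw [mem_zpowers_iff_of_mul_self hJJ]; push Not; exact ⟨hb1, hbJ⟩
    · rw [k4_comm hP hb hJ]; simp [inv_eq_of_mul_self hJJ]
  have hc : centralizer ({J, b} : Set G) = centralizer ((P : Subgroup G) : Set G) := by
    rw [hsup, zpowers_eq_closure, zpowers_eq_closure, ← Subgroup.closure_union,
      centralizer_closure]; rfl
  have hc' : centralizer ({J, J * b} : Set G) = centralizer ((P : Subgroup G) : Set G) := by
    rw [← hc, ← centralizer_closure, ← closure_pair_eq, centralizer_closure]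
  have e : tfun M J (2 ^ (0 + 1)) (-1) = ∑ i, (ε i : ℂ) • (χ i : G → ℂ) := by
    rw [tfun, show univ.filter (· ∈ principalBlock M G) = univ.image χ from by
      ext ψ; simp [hB], sum_image hinj.injOn]
    refine sum_congr rfl fun i _ => ?_
    simp only [fco, zero_add, pow_one, sum_range_succ, range_zero, sum_empty, hv]
    congr 1; push_cast; ring
  have e1 := Dih.tfun_of_odd h hM (ω := -1) (g := 1) (by simp)
  have e2 := Dih.order_formula h hM (fun s t => k4_sylow_isConj P hP hn) (by simp) univ _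
    (fun i _ => isSIrr_smul (χ i).2 (hε i)) e
  simp only [e, Finset.sum_apply, Pi.smul_apply, smul_eq_mul, pow_zero, pow_one, hv,
    (χ _).2.apply_one_eq, hc, hc'] at e1 e2
  refine ⟨by exact_mod_cast e1, Rat.cast_injective (α := ℂ) ?_⟩
  rw [sum_congr rfl (g := fun i => 1 / ((ε i : ℂ) * charDegree (χ i : G → ℂ))) fun i _ => by
    rcases hε i with e | e <;> simp [e]] at e2
  push_cast at e2 ⊢
  rw [e2]; ring

omit hn hJ in
theorem kleinFour_sum_frobeniusSchur [Fintype G] :
    ∑ i, ((Nat.card G : ℂ)⁻¹ * ∑ s, (χ i : G → ℂ) (s * s)) * (χ i : G → ℂ) J = 0 := by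
  classical
  have : Modular 2 M := ⟨hM⟩
  set ν : IrrCharacter G → ℂ := fun ψ => (Nat.card G : ℂ)⁻¹ * ∑ s, (ψ : G → ℂ) (s * s) with hν
  have e := blockPart_apply_eq_zero (p := 2) (Block.isPBlock_principalBlock (M := M)).fblk_mem_SG
    (θ := ∑ ψ with ψ ∈ (Set.univ : Set (IrrCharacter G)), ν ψ • (ψ : G → ℂ)) (u := J)
    fun g hg => by
      have h1 := card_sq_eq_sum_irr g⁻¹
      have : IsEmpty {s : G // s * s = g⁻¹} := ⟨fun ⟨s, hs⟩ => by
        have h2 : pPart 2 (s * s) = 1 := by
          rw [pPart_mul_of_commute 2 (Commute.refl s)]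
          by_cases h3 : 2 ∣ orderOf s
          · exact mul_self_of_orderOf (kleinFour_orderOf_pPart P hP h3)
          · rw [pPart_of_not_dvd Nat.prime_two h3, mul_one]
        rw [hs, pPart_inv, inv_eq_one] at h2
        rw [h2, pPart_of_pElt Nat.prime_two ⟨1, by simpa using hJ2⟩, isConj_one_left] at hg
        exact ne_one_of_orderOf hJ2 hg⟩
      simp only [Nat.card_of_isEmpty, Nat.cast_zero, (_ : IrrCharacter G).2.apply_inv,
        Complex.conj_conj] at h1
      simpa [Finset.sum_apply, hν] using h1.symm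
  rw [blockPart_eq_sum, show univ.filter (· ∈ principalBlock M G) = univ.image χ from by
      ext ψ; simp [hB], sum_image hinj.injOn] at e
  simp only [classInner_sum_filter_smul] at e
  simpa only [Set.mem_univ, if_true, Finset.sum_apply, Pi.smul_apply, smul_eq_mul] using e

end

end Cfsg.Lib.Modular
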