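import Cfsg.Agent.Lib.Modular.Contrib

/-!
# Real `2`-blocks of full defect are principal
-/

namespace Cfsg.Lib.Modular

open _root_.Cfsg.Lib.Block Cfsg.Lib.Char MonoidAlgebra Subgroup
open scoped ComplexConjugate

variable {G : Type*} [Group G] [Finite G] {M : Ideal AlgInt} {B : Set (IrrCharacter G)}

omit [Finite G] in
theorem blockDefect_principalBlock (p : ℕ) [M.IsPrime] :
    blockDefect p (principalBlock M G) = (Nat.card G).factorization p := by
  rw [blockDefect_eq_of_height_zero Block.irrOne_mem_principalBlock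
    (blockHeight_of_degree_one rfl),
    coe_irrOne, charDegree_one, Nat.factorization_one, Finsupp.zero_apply, Nat.sub_zero]

theorem exists_not_dvd_degree_of_full_defect {p : ℕ} [hp : Fact p.Prime] (hB : B.Nonempty)
    (h : blockDefect p B = (Nat.card G).factorization p) :
    ∃ χ ∈ B, ¬ p ∣ charDegree (χ : G → ℂ) := by
  obtain ⟨χ, hχ, h0⟩ := exists_height_zero p hB
  refine ⟨χ, hχ, fun hd => ?_⟩
  have e := factorization_degree_add_defect (p := p) hχ
  have := (hp.out.dvd_iff_one_le_factorization χ.2.charDegree_pos.ne').1 hd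
  omega

/-- An irreducible character of odd degree whose central character is invariant under inversion
modulo the local ideal on elements of odd order lies in the principal `2`-block. -/
theorem mem_principalBlock_of_red_inv [Modular 2 M] {χ : IrrCharacter G}
    (hodd : ¬ 2 ∣ charDegree (χ : G → ℂ))
    (h : ∀ g : G, ¬ 2 ∣ orderOf g →
      red M (centralChar (χ : G → ℂ) g⁻¹) = red M (centralChar (χ : G → ℂ) g)) :
    χ ∈ principalBlock M G := by
  classical
  have := Fintype.ofFinite G
  have h1 : red M ((χ : G → ℂ) 1) ≠ 0 := by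
    rw [χ.2.apply_one_eq, Ne, red_natCast_eq_zero_iff]
    exact hodd
  obtain ⟨P⟩ : Nonempty (Sylow 2 G) := inferInstance
  set F : G → Res M := fun g => if 2 ∣ orderOf g then 0 else red M ((χ : G → ℂ) g) with hF
  have hsum : ∑ g, F g = red M ((χ : G → ℂ) 1) := by
    rw [sum_eq_sum_centralizer P.isPGroup' F fun u _ x => by
      simp only [hF, orderOf_conj_eq, χ.2.isClassFunction x u]]
    rw [← Finset.add_sum_erase _ _ (a := 1) (by simp)]
    have hF1 : F 1 = red M ((χ : G → ℂ) 1) := by simp [hF]
    rw [hF1, add_eq_left]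
    refine Finset.sum_involution (fun g _ => g⁻¹) (fun g hg => ?_) (fun g hg h0 e => ?_)
      (fun g hg => ?_) (fun g _ => inv_inv g)
    · by_cases h2 : 2 ∣ orderOf g
      · simp [hF, h2]
      have hgP : g ∈ centralizer ((P : Subgroup G) : Set G) := by simpa using
        (Finset.mem_erase.1 hg).2
      have hi : ¬ 2 ∣ (centralizer ({g} : Set G)).index := fun hd =>
        P.not_dvd_index (hd.trans (index_dvd_of_le (le_centralizer_singleton_iff.2 hgP)))
      have hi' : red M ((centralizer ({g} : Set G)).index : ℂ) ≠ 0 := by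
        rwa [Ne, red_natCast_eq_zero_iff]
      have e := h g h2
      rw [centralChar_def, centralChar_def, index_centralizer_inv,
        red_div (mul_mem (natCast_mem _ _) (irr_mem χ _)) h1,
        red_div (mul_mem (natCast_mem _ _) (irr_mem χ _)) h1,
        red_mul (natCast_mem _ _) (irr_mem χ _), red_mul (natCast_mem _ _) (irr_mem χ _),
        div_left_inj' h1, mul_right_inj' hi'] at e
      simp only [hF, orderOf_inv, if_neg h2, e]
      exact CharTwo.add_self_eq_zero _
    · have h2 : ¬ 2 ∣ orderOf g := fun h2 => h0 (by simp [hF, h2])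
      have : orderOf g ∣ 2 := orderOf_dvd_of_pow_eq_one (by
        rw [pow_two]; nth_rw 1 [← e]; exact inv_mul_cancel g)
      rcases (Nat.dvd_prime Nat.prime_two).1 this with h3 | h3
      · exact (Finset.mem_erase.1 hg).1 (orderOf_eq_one_iff.1 h3)
      · exact h2 (h3 ▸ dvd_rfl)
    · simpa using hg
  rw [mem_principalBlock_iff, lam_zbar χ.2 isGeneralizedCharacter_one, omega_apply, ev_zreg,
    red_div (sum_mem fun g _ => by
      split_ifs
      exacts [zero_mem _, mul_mem (one_mem _) (irr_mem χ _)]) h1,
    red_sum _ _ fun g _ => by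
      split_ifs
      exacts [zero_mem _, mul_mem (one_mem _) (irr_mem χ _)]]
  have : ∑ g, red M (if 2 ∣ orderOf g then 0 else 1 * (χ : G → ℂ) g) = ∑ g, F g :=
    Finset.sum_congr rfl fun g _ => by
      simp only [hF]
      split_ifs <;> simp
  rw [this, hsum, div_self h1]
  exact one_ne_zero

/-- A `2`-block of full defect which is stable under inversion of the elements of odd order is
the principal block. -/
theorem eq_principalBlock_of_inv_stable [Modular 2 M] (hB : IsPBlock M B)
    (hd : blockDefect 2 B = (Nat.card G).factorization 2)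
    (h : ∀ χ ∈ B, ∃ ψ ∈ B, ∀ g : G, ¬ 2 ∣ orderOf g → (ψ : G → ℂ) g = (χ : G → ℂ) g⁻¹) :
    B = principalBlock M G := by
  obtain ⟨χ, hχ, hodd⟩ := exists_not_dvd_degree_of_full_defect hB.nonempty hd
  obtain ⟨ψ, hψ, e⟩ := h χ hχ
  refine hB.eq_of_mem Block.isPBlock_principalBlock hχ
    (mem_principalBlock_of_red_inv hodd fun g hg => ?_)
  rw [(sameBlock_iff_red χ.2 ψ.2).1 (hB.sameBlock hχ hψ) g, centralChar_def, centralChar_def,
    e g hg, e 1 (not_dvd_orderOf_one Nat.prime_two), inv_one, index_centralizer_inv]

end Cfsg.Lib.Modular
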